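import Groth.Agent.CAlgEtLift.Stage
import Groth.Agent.Hensel.SmoothLift
import Mathlib.LinearAlgebra.Matrix.ToLin

/-!
# Étale local lifting of finite projective modules
-/

universe u

open TensorProduct CategoryTheory

namespace Groth.Agent.CAlgEtLift

open Groth.Agent.Hensel

/-- A module over `E` cut out by an idempotent matrix lifting a presentation of `P` over a
quotient `R` of `E` has the base change of `P` as reduction. -/
theorem base_change_equiv {E R Q : Type u} [CommRing E] [CommRing R] [CommRing Q] [Algebra E Q] [Algebra R Q]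
    (σ : E →+* R) (hcomp : ∀ x, algebraMap E Q x = algebraMap R Q (σ x))
    {n : ℕ} (M : Matrix (Fin n) (Fin n) E) (hM : IsIdempotentElem M)
    (P : Type u) [AddCommGroup P] [Module R P] (q : (Fin n → R) →ₗ[R] P) (s : P →ₗ[R] (Fin n → R))
    (hqs : q ∘ₗ s = LinearMap.id) (hMσ : Matrix.toLin' (M.map σ) = s ∘ₗ q) :
    Nonempty ((Q ⊗[E] LinearMap.range (Matrix.toLin' M)) ≃ₗ[Q] (Q ⊗[R] P)) := by
  classical
  let P' := LinearMap.range (Matrix.toLin' M)
  have hid : ∀ x : P', Matrix.toLin' M x.1 = x.1 := by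
    rintro ⟨_, y, rfl⟩
    show Matrix.toLin' M (Matrix.toLin' M y) = Matrix.toLin' M y
    rw [← LinearMap.comp_apply, ← Matrix.toLin'_mul, hM.eq]
  have hσM : ∀ y : Fin n → E, (σ ∘ Matrix.toLin' M y : Fin n → R) = s (q (σ ∘ y)) := fun y => by
    rw [← LinearMap.comp_apply, ← hMσ, Matrix.toLin'_apply, Matrix.toLin'_apply]
    funext i
    exact RingHom.map_mulVec σ M y i
  have hsmul : ∀ (c : E) (y : Fin n → E), (σ ∘ (c • y) : Fin n → R) = σ c • (σ ∘ y) := fun c y => by
    funext i; simp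
  let f : P' →ₗ[E] Q ⊗[R] P :=
    { toFun := fun x => (1 : Q) ⊗ₜ q (σ ∘ x.1)
      map_add' := fun x y => by
        rw [show (σ ∘ (x + y : P').1 : Fin n → R) = σ ∘ x.1 + σ ∘ y.1 by funext i; simp, map_add, tmul_add]
      map_smul' := fun c x => by
        rw [show ((c • x : P').1) = c • x.1 from rfl, hsmul, map_smul, tmul_smul, RingHom.id_apply,
          ← algebraMap_smul Q c, hcomp, algebraMap_smul] }
  let φ : Q ⊗[E] P' →ₗ[Q] Q ⊗[R] P := f.liftBaseChange Q
  let col : Fin n → P' := fun i => ⟨Matrix.toLin' M (Pi.single i 1), _, rfl⟩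
  let g : (Fin n → R) →ₗ[R] Q →ₗ[Q] Q ⊗[E] P' :=
    { toFun := fun v => ∑ i, (LinearMap.id : Q →ₗ[Q] Q).smulRight (algebraMap R Q (v i) ⊗ₜ[E] col i)
      map_add' := fun v w => by
        rw [← Finset.sum_add_distrib]
        refine Finset.sum_congr rfl fun i _ => LinearMap.ext fun c => ?_
        simp [add_tmul, smul_add]
      map_smul' := fun c v => by
        rw [Finset.smul_sum]
        refine Finset.sum_congr rfl fun i _ => LinearMap.ext fun d => ?_
        simp only [Pi.smul_apply, smul_eq_mul, map_mul, RingHom.id_apply, LinearMap.smul_apply,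
          LinearMap.smulRight_apply, LinearMap.id_apply, smul_tmul']
        rw [← algebraMap_smul Q c]
        congr 1
        simp only [smul_eq_mul]
        ring }
  let ψ : Q ⊗[R] P →ₗ[Q] Q ⊗[E] P' :=
    TensorProduct.AlgebraTensorModule.lift (LinearMap.flip (g ∘ₗ s))
  have hψ : ∀ (c : Q) (p : P), ψ (c ⊗ₜ p) = ∑ i, c • (algebraMap R Q (s p i) ⊗ₜ[E] col i) := fun c p => by
    simp [ψ, g, LinearMap.sum_apply]
  have hφψ : φ ∘ₗ ψ = LinearMap.id := by
    apply TensorProduct.AlgebraTensorModule.ext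
    intro c p
    rw [LinearMap.comp_apply, hψ, map_sum, LinearMap.id_apply]
    have h1 : ∀ i, φ (c • (algebraMap R Q (s p i) ⊗ₜ[E] col i)) = c ⊗ₜ[R] (s p i • q (Pi.single i 1)) := fun i => by
      rw [map_smul, LinearMap.liftBaseChange_tmul]
      show c • algebraMap R Q (s p i) • ((1 : Q) ⊗ₜ[R] q (σ ∘ (Matrix.toLin' M (Pi.single i 1)))) = _
      rw [hσM, show (σ ∘ (Pi.single i 1 : Fin n → E) : Fin n → R) = Pi.single i 1 by
          funext j; rcases eq_or_ne j i with rfl | h <;> simp [*],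
        ← LinearMap.comp_apply q s, hqs, LinearMap.id_apply, algebraMap_smul, ← tmul_smul, smul_tmul',
        smul_eq_mul, mul_one]
    rw [Finset.sum_congr rfl fun i _ => h1 i, ← tmul_sum]
    congr 1
    conv_rhs => rw [← LinearMap.id_apply (R := R) p, ← hqs, LinearMap.comp_apply, pi_eq_sum_univ' (s p)]
    simp [map_sum]
  have hψφ : ψ ∘ₗ φ = LinearMap.id := by
    apply TensorProduct.AlgebraTensorModule.ext
    intro c x
    rw [LinearMap.comp_apply, LinearMap.liftBaseChange_tmul, LinearMap.id_apply, map_smul]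
    show c • ψ ((1 : Q) ⊗ₜ q (σ ∘ x.1)) = c ⊗ₜ x
    rw [hψ, ← hσM, hid]
    simp only [one_smul, Function.comp_apply, ← hcomp, Algebra.algebraMap_eq_smul_one, smul_tmul, ← tmul_sum]
    rw [smul_tmul', smul_eq_mul, mul_one]
    congr 1
    refine Subtype.ext ?_
    conv_rhs => rw [← hid x, pi_eq_sum_univ' x.1]
    rw [map_sum, AddSubmonoidClass.coe_finsetSum]
    simp [col, map_smul]
  exact ⟨LinearEquiv.ofLinearMap φ ψ hφψ hψφ⟩

theorem exists_etale_lift_finite_projective {A : Type u} [CommRing A] (I : Ideal A) (P : Type u)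
    [AddCommGroup P] [Module (A ⧸ I) P] [Module.Finite (A ⧸ I) P] [Module.Projective (A ⧸ I) P] :
    ∃ (A' : Type u) (_ : CommRing A') (_ : Algebra A A'), Algebra.Etale A A' ∧
      Function.Bijective (algebraMap (A ⧸ I) (A' ⧸ I.map (algebraMap A A'))) ∧
      ∃ (P' : Type u) (_ : AddCommGroup P') (_ : Module A' P'), Module.Finite A' P' ∧
        Module.Projective A' P' ∧
        Nonempty (((A' ⧸ I.map (algebraMap A A')) ⊗[A'] P') ≃ₗ[A' ⧸ I.map (algebraMap A A')]
          ((A' ⧸ I.map (algebraMap A A')) ⊗[A ⧸ I] P)) := by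
  classical
  obtain ⟨n, q, s, -, -, hqs⟩ := Module.Finite.exists_comp_eq_id_of_projective (A ⧸ I) P
  let e₀ : Matrix (Fin n) (Fin n) (A ⧸ I) := LinearMap.toMatrix' (s ∘ₗ q)
  have he₀ : e₀ * e₀ = e₀ := by
    rw [← LinearMap.toMatrix'_comp, LinearMap.comp_assoc, ← LinearMap.comp_assoc q s q, hqs, LinearMap.id_comp]
  choose a ha using fun i j => Ideal.Quotient.mk_surjective (e₀ i j)
  let H := Hens A (A ⧸ I)
  let π := (Hens.π A (A ⧸ I)).toRingHom
  let E₀ : Matrix (Fin n) (Fin n) H := Matrix.of fun i j => algebraMap A H (a i j)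
  have hE₀ : E₀.map π = e₀ := by
    ext i j
    exact ((Hens.π A (A ⧸ I)).commutes (a i j)).trans (ha i j)
  have hker : RingHom.ker π = I.map (algebraMap A H) := Hens.ker_π_quotient A I
  obtain ⟨M, hM, hMd⟩ := exists_idem_matrix_lift (gabberRoot_hens A I) E₀ fun i j => by
    rw [← hker, RingHom.mem_ker]
    have := congrArg (fun m => m i j) (show (E₀ * E₀ - E₀).map π = 0 by
      rw [Matrix.map_sub π (map_sub π), Matrix.map_mul, hE₀, he₀, sub_self])
    simpa using this
  have hMπ : M.map π = e₀ := by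
    ext i j
    have := hMd i j
    rw [← hker, RingHom.mem_ker, Matrix.sub_apply, map_sub, sub_eq_zero] at this
    rw [Matrix.map_apply, this]
    exact congrArg (fun m => m i j) hE₀
  obtain ⟨X, c, hc⟩ := Hens.exists_rep_fintype (fun p : Fin n × Fin n => M p.1 p.2)
  let N : Matrix (Fin n) (Fin n) X.carrier := Matrix.of fun i j => c (i, j)
  have hN : N.map (Hens.of X).toRingHom = M := by
    ext i j
    exact hc (i, j)
  obtain ⟨Y, e, he⟩ := exists_stage_zero Finset.univ (fun p : Fin n × Fin n => (N * N - N) p.1 p.2) fun p _ => by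
    have := congrArg (fun m => m p.1 p.2) (show (N * N - N).map (Hens.of X).toRingHom = 0 by
      rw [Matrix.map_sub _ (map_sub _), Matrix.map_mul, hN, hM.eq, sub_self])
    simpa using this
  obtain ⟨E, _, _, _, σ, ψ, hE, hψ⟩ := exists_trivial_nbhd Y
  let θ : X.carrier →ₐ[A] E := ψ.comp e.1
  let ME : Matrix (Fin n) (Fin n) E := N.map θ.toRingHom
  have hME : IsIdempotentElem ME := by
    show ME * ME = ME
    rw [← sub_eq_zero, ← Matrix.map_mul, ← Matrix.map_sub _ (map_sub _)]
    ext i j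
    show ψ (e.1 ((N * N - N) i j)) = 0
    rw [he (i, j) (Finset.mem_univ _), map_zero]
  have hMσ : ME.map σ.toRingHom = e₀ := by
    rw [← hMπ, ← hN]
    ext i j
    show σ (ψ (e.1 (N i j))) = Hens.π A (A ⧸ I) (Hens.of X (N i j))
    rw [hψ, Hens.π_of, Nbhd.pt_hom]
  let P' := LinearMap.range (Matrix.toLin' ME)
  let p' : (Fin n → E) →ₗ[E] P' := (Matrix.toLin' ME).rangeRestrict
  have hproj : Module.Projective E P' := Module.Projective.of_split P'.subtype p' (LinearMap.ext fun x => by
    obtain ⟨_, y, rfl⟩ := x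
    refine Subtype.ext ?_
    show Matrix.toLin' ME (Matrix.toLin' ME y) = Matrix.toLin' ME y
    rw [← LinearMap.comp_apply, ← Matrix.toLin'_mul, hME.eq])
  refine ⟨E, inferInstance, inferInstance, inferInstance, hE, P', inferInstance, inferInstance,
    Module.Finite.range _, hproj,
    base_change_equiv σ.toRingHom (fun x => mk_eq_point hE σ x) ME hME P q s hqs ?_⟩
  rw [hMσ, Matrix.toLin'_toMatrix']

end Groth.Agent.CAlgEtLift
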