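import Groth.Agent.CAlgEtLift.Stage

/-!
# Étale local lifting of factorisations and idempotents
-/

universe u

open TensorProduct CategoryTheory Polynomial

namespace Groth.Agent.CAlgEtLift

open Groth.Agent.Hensel

variable {A : Type u} [CommRing A] {I : Ideal A}

theorem π_eq_of_mk {z : Hens A (A ⧸ I)} {a : A}
    (h : Ideal.Quotient.mk (I.map (algebraMap A (Hens A (A ⧸ I)))) z =
      Ideal.Quotient.mk _ (algebraMap A _ a)) : Hens.π A (A ⧸ I) z = Ideal.Quotient.mk I a := by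
  rw [Ideal.Quotient.eq, ← Hens.ker_π_quotient, RingHom.mem_ker] at h
  simpa [sub_eq_zero, Ideal.Quotient.algebraMap_eq] using h

theorem exists_etale_lift_monic_factorization (I : Ideal A) (f : A[X])
    (hf : f.Monic) (g h : (A ⧸ I)[X]) (hg : g.Monic) (hh : h.Monic) (hcop : IsCoprime g h)
    (hfgh : f.map (Ideal.Quotient.mk I) = g * h) :
    ∃ (A' : Type u) (_ : CommRing A') (_ : Algebra A A'), Algebra.Etale A A' ∧
      Function.Bijective (algebraMap (A ⧸ I) (A' ⧸ I.map (algebraMap A A'))) ∧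
      ∃ g' h' : A'[X], g'.Monic ∧ h'.Monic ∧ f.map (algebraMap A A') = g' * h' ∧
        g'.map (Ideal.Quotient.mk (I.map (algebraMap A A'))) =
          g.map (algebraMap (A ⧸ I) (A' ⧸ I.map (algebraMap A A'))) ∧
        h'.map (Ideal.Quotient.mk (I.map (algebraMap A A'))) =
          h.map (algebraMap (A ⧸ I) (A' ⧸ I.map (algebraMap A A'))) := by
  classical
  let H := Hens A (A ⧸ I)
  let IH := I.map (algebraMap A H)
  let φ : A ⧸ I →+* H ⧸ IH := Ideal.quotientMap IH (algebraMap A H) Ideal.le_comap_map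
  obtain ⟨G, Q, hGm, hQm, -, hGQ, hG, hQ⟩ := exists_monic_factor_lift (gabberRoot_hens A I)
    (f.map (algebraMap A H)) (hf.map _) (g.map φ) (h.map φ) (hg.map _) (hh.map _)
    (hcop.map (mapRingHom φ)) (by
      rw [Polynomial.map_map, ← Polynomial.map_mul, ← hfgh, Polynomial.map_map]
      rfl)
  have hπ : ∀ (P : H[X]) (p : (A ⧸ I)[X]), P.map (Ideal.Quotient.mk IH) = p.map φ →
      P.map (Hens.π A (A ⧸ I)).toRingHom = p := by
    intro P p hP
    ext i
    obtain ⟨a, ha⟩ := Ideal.Quotient.mk_surjective (p.coeff i)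
    have h1 := congrArg (fun q => q.coeff i) hP
    simp only [coeff_map, ← ha] at h1
    rw [coeff_map, ← ha]
    exact π_eq_of_mk (h1.trans (Ideal.quotientMap_mk (H := Ideal.le_comap_map)))
  obtain ⟨X, c, hc⟩ := Hens.exists_rep_fintype
    (Sum.elim (fun i : Fin G.natDegree => G.coeff i) (fun i : Fin Q.natDegree => Q.coeff i))
  let G₁ : X.carrier[X] := Polynomial.X ^ G.natDegree + ∑ i : Fin G.natDegree, C (c (.inl i)) * Polynomial.X ^ (i : ℕ)
  let Q₁ : X.carrier[X] := Polynomial.X ^ Q.natDegree + ∑ i : Fin Q.natDegree, C (c (.inr i)) * Polynomial.X ^ (i : ℕ)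
  have hG₁ : G₁.map (Hens.of X).toRingHom = G := by
    conv_rhs => rw [hGm.as_sum, ← Fin.sum_univ_eq_sum_range (fun i => C (G.coeff i) * Polynomial.X ^ i)]
    simp only [G₁, Polynomial.map_add, Polynomial.map_pow, Polynomial.map_X, Polynomial.map_sum,
      Polynomial.map_mul, Polynomial.map_C]
    simp only [AlgHom.toRingHom_eq_coe, RingHom.coe_coe, hc, Sum.elim_inl]
  have hQ₁ : Q₁.map (Hens.of X).toRingHom = Q := by
    conv_rhs => rw [hQm.as_sum, ← Fin.sum_univ_eq_sum_range (fun i => C (Q.coeff i) * Polynomial.X ^ i)]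
    simp only [Q₁, Polynomial.map_add, Polynomial.map_pow, Polynomial.map_X, Polynomial.map_sum,
      Polynomial.map_mul, Polynomial.map_C]
    simp only [AlgHom.toRingHom_eq_coe, RingHom.coe_coe, hc, Sum.elim_inr]
  let D : X.carrier[X] := f.map (algebraMap A X.carrier) - G₁ * Q₁
  have hD : D.map (Hens.of X).toRingHom = 0 := by
    rw [Polynomial.map_sub, Polynomial.map_mul, hG₁, hQ₁, Polynomial.map_map, AlgHom.toRingHom_eq_coe,
      AlgHom.comp_algebraMap, hGQ, sub_self]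
  obtain ⟨Y, e, he⟩ := exists_stage_zero D.support (fun i => D.coeff i) (fun i _ => by
    simpa using congrArg (fun q => q.coeff i) hD)
  obtain ⟨E, _, _, _, σ, ψ, hE, hψ⟩ := exists_trivial_nbhd Y
  let θ : X.carrier →ₐ[A] E := ψ.comp e.1
  have hD' : D.map θ.toRingHom = 0 := by
    ext i
    rw [coeff_map, coeff_zero]
    by_cases hi : i ∈ D.support
    · show ψ (e.1 (D.coeff i)) = 0
      rw [he i hi, map_zero]
    · rw [notMem_support_iff.1 hi, map_zero]
  have hσ : σ.toRingHom.comp θ.toRingHom = (Hens.π A (A ⧸ I)).toRingHom.comp (Hens.of X).toRingHom :=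
    RingHom.ext fun x => by
      show σ (ψ (e.1 x)) = Hens.π A (A ⧸ I) (Hens.of X x)
      rw [hψ, Hens.π_of, Nbhd.pt_hom]
  have hred : ∀ (P : X.carrier[X]) (p : (A ⧸ I)[X]), (P.map (Hens.of X).toRingHom).map (Hens.π A (A ⧸ I)).toRingHom = p →
      (P.map θ.toRingHom).map (Ideal.Quotient.mk (I.map (algebraMap A E))) =
        p.map (algebraMap (A ⧸ I) (E ⧸ I.map (algebraMap A E))) := by
    intro P p hP
    rw [Polynomial.map_map, ← hσ] at hP
    rw [← hP, Polynomial.map_map, Polynomial.map_map]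
    congr 1
    exact RingHom.ext fun x => mk_eq_point hE σ (θ x)
  refine ⟨E, inferInstance, inferInstance, inferInstance, hE, G₁.map θ.toRingHom, Q₁.map θ.toRingHom,
    (monic_X_pow_add (degree_sum_fin_lt _)).map _, (monic_X_pow_add (degree_sum_fin_lt _)).map _, ?_,
    hred _ _ (by rw [hG₁]; exact hπ G g hG), hred _ _ (by rw [hQ₁]; exact hπ Q h hQ)⟩
  rw [Polynomial.map_sub, Polynomial.map_mul, sub_eq_zero, Polynomial.map_map, AlgHom.toRingHom_eq_coe,
    AlgHom.comp_algebraMap] at hD'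
  exact hD'

theorem map_id_eq_rTensor {B X Y : Type u} [CommRing B] [Algebra A B] [CommRing X] [Algebra A X]
    [CommRing Y] [Algebra A Y] (f : X →ₐ[A] Y) (z : X ⊗[A] B) :
    Algebra.TensorProduct.map f (AlgHom.id A B) z = f.toLinearMap.rTensor B z := by
  induction z using TensorProduct.induction_on with
  | zero => simp
  | tmul a b => simp
  | add a b ha hb => simp [ha, hb]

theorem exists_rep_smul {M : Type u} [AddCommGroup M] [Module A M] (z : Hens A (A ⧸ I) ⊗[A] M)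
    (hz : z ∈ I • (⊤ : Submodule A (Hens A (A ⧸ I) ⊗[A] M))) :
    ∃ (X : Nbhd A (A ⧸ I)) (w : X.carrier ⊗[A] M), w ∈ I • (⊤ : Submodule A _) ∧
      (Hens.of X).toLinearMap.rTensor M w = z := by
  induction hz using Submodule.smul_induction_on' with
  | smul r hr x _ =>
    obtain ⟨X, w, rfl⟩ := exists_rep_tensor M x
    exact ⟨X, r • w, Submodule.smul_mem_smul hr trivial, map_smul _ r w⟩
  | add x _ y _ hx hy =>
    obtain ⟨X, v, hv, rfl⟩ := hx
    obtain ⟨W, w, hw, rfl⟩ := hy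
    refine ⟨IsFiltered.max X W, (IsFiltered.leftToMax X W).1.toLinearMap.rTensor M v +
      (IsFiltered.rightToMax X W).1.toLinearMap.rTensor M w, ?_, by rw [map_add, rTensor_of_hom, rTensor_of_hom]⟩
    refine add_mem ?_ ?_
    · exact (Submodule.map_smul'' I ⊤ _).le.trans (smul_mono_right I le_top) (Submodule.mem_map_of_mem hv)
    · exact (Submodule.map_smul'' I ⊤ _).le.trans (smul_mono_right I le_top) (Submodule.mem_map_of_mem hw)

theorem exists_etale_lift_idempotent {B : Type u} [CommRing B] [Algebra A B] [Algebra.IsIntegral A B]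
    (I : Ideal A) (e : B ⧸ I.map (algebraMap A B)) (he : IsIdempotentElem e) :
    ∃ (A' : Type u) (_ : CommRing A') (_ : Algebra A A'), Algebra.Etale A A' ∧
      Function.Bijective (algebraMap (A ⧸ I) (A' ⧸ I.map (algebraMap A A'))) ∧
      ∃ e' : A' ⊗[A] B, IsIdempotentElem e' ∧
        ∀ b : B, Ideal.Quotient.mk (I.map (algebraMap A B)) b = e →
          e' - 1 ⊗ₜ b ∈ I.map (algebraMap A (A' ⊗[A] B)) := by
  classical
  obtain ⟨b₀, rfl⟩ := Ideal.Quotient.mk_surjective e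
  let H := Hens A (A ⧸ I)
  have hinc : ∀ (T : Type u) [CommRing T] [Algebra A T], ∀ y ∈ I.map (algebraMap A B),
      (1 : T) ⊗ₜ[A] y ∈ I.map (algebraMap A (T ⊗[A] B)) := by
    intro T _ _ y hy
    have h1 := Ideal.mem_map_of_mem (Algebra.TensorProduct.includeRight (R := A) (A := T) (B := B)).toRingHom hy
    rw [Ideal.map_map, AlgHom.toRingHom_eq_coe, AlgHom.comp_algebraMap] at h1
    exact h1
  have hIH : (I.map (algebraMap A H)).map (algebraMap H (H ⊗[A] B)) = I.map (algebraMap A (H ⊗[A] B)) := by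
    rw [Ideal.map_map, ← IsScalarTower.algebraMap_eq]
  have hb : b₀ * b₀ - b₀ ∈ I.map (algebraMap A B) := Ideal.Quotient.eq.1 ((map_mul _ _ _).trans he)
  obtain ⟨z, hz, hzb⟩ := exists_idem_lift_of_isIntegral (gabberRoot_hens A I) ((1 : H) ⊗ₜ[A] b₀) (by
    rw [hIH, Algebra.TensorProduct.tmul_mul_tmul, one_mul, ← tmul_sub]
    exact hinc H _ hb)
  rw [hIH] at hzb
  have hzb' : z - (1 : H) ⊗ₜ[A] b₀ ∈ I • (⊤ : Submodule A (H ⊗[A] B)) := by
    rw [Ideal.smul_top_eq_map]; exact hzb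
  obtain ⟨X, x, rfl⟩ := exists_rep_tensor B z
  obtain ⟨W, w, hw, hwz⟩ := exists_rep_smul _ hzb'
  let Y := IsFiltered.max X W
  let p := IsFiltered.leftToMax X W
  let q := IsFiltered.rightToMax X W
  let x₁ : Y.carrier ⊗[A] B := p.1.toLinearMap.rTensor B x
  let w₁ : Y.carrier ⊗[A] B := q.1.toLinearMap.rTensor B w
  have hx₁ : Algebra.TensorProduct.map (Hens.of Y) (AlgHom.id A B) x₁ = (Hens.of X).toLinearMap.rTensor B x := by
    rw [map_id_eq_rTensor, rTensor_of_hom]
  obtain ⟨Z, u, hu⟩ := exists_stage_tensor_zero B (x₁ * x₁ - x₁) (by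
    rw [← map_id_eq_rTensor, map_sub, map_mul, hx₁, hz.eq, sub_self])
  obtain ⟨Z', u', hu'⟩ := exists_stage_tensor_zero B
    (u.1.toLinearMap.rTensor B (x₁ - (1 : Y.carrier) ⊗ₜ[A] b₀ - w₁)) (by
    rw [rTensor_of_hom, ← map_id_eq_rTensor, map_sub, map_sub, hx₁, Algebra.TensorProduct.map_tmul, map_one,
      AlgHom.id_apply, map_id_eq_rTensor (f := Hens.of Y) (z := w₁), rTensor_of_hom, hwz, sub_self])
  obtain ⟨E, _, _, _, σ, ψ, hE, -⟩ := exists_trivial_nbhd Z'
  let θ : Y.carrier →ₐ[A] E := ψ.comp (u'.1.comp u.1)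
  have h1 : Algebra.TensorProduct.map θ (AlgHom.id A B) (x₁ * x₁ - x₁) = 0 := by
    rw [map_id_eq_rTensor]
    show ((ψ.toLinearMap ∘ₗ u'.1.toLinearMap) ∘ₗ u.1.toLinearMap).rTensor B _ = 0
    rw [LinearMap.rTensor_comp, LinearMap.comp_apply, hu, map_zero]
  have h2 : Algebra.TensorProduct.map θ (AlgHom.id A B) (x₁ - (1 : Y.carrier) ⊗ₜ[A] b₀ - w₁) = 0 := by
    rw [map_id_eq_rTensor]
    show ((ψ.toLinearMap ∘ₗ u'.1.toLinearMap) ∘ₗ u.1.toLinearMap).rTensor B _ = 0
    rw [LinearMap.rTensor_comp, LinearMap.comp_apply, LinearMap.rTensor_comp, LinearMap.comp_apply, hu', map_zero]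
  rw [map_sub, map_mul, sub_eq_zero] at h1
  rw [map_sub, map_sub, sub_eq_zero, Algebra.TensorProduct.map_tmul, map_one, AlgHom.id_apply] at h2
  refine ⟨E, inferInstance, inferInstance, inferInstance, hE,
    Algebra.TensorProduct.map θ (AlgHom.id A B) x₁, h1, fun b hb => ?_⟩
  have h3 : Algebra.TensorProduct.map θ (AlgHom.id A B) w₁ ∈ I.map (algebraMap A (E ⊗[A] B)) := by
    have : Algebra.TensorProduct.map θ (AlgHom.id A B) w₁ ∈ I • (⊤ : Submodule A (E ⊗[A] B)) := by
      rw [map_id_eq_rTensor, show w₁ = q.1.toLinearMap.rTensor B w from rfl, ← LinearMap.comp_apply]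
      exact (Submodule.map_smul'' I ⊤ _).le.trans (smul_mono_right I le_top) (Submodule.mem_map_of_mem hw)
    rw [Ideal.smul_top_eq_map] at this
    exact this
  have h4 : (1 : E) ⊗ₜ[A] b₀ - 1 ⊗ₜ b ∈ I.map (algebraMap A (E ⊗[A] B)) := by
    rw [← tmul_sub]
    exact hinc E _ (Ideal.Quotient.eq.1 hb.symm)
  have h5 : Algebra.TensorProduct.map θ (AlgHom.id A B) x₁ - 1 ⊗ₜ b =
      Algebra.TensorProduct.map θ (AlgHom.id A B) w₁ + ((1 : E) ⊗ₜ[A] b₀ - 1 ⊗ₜ b) := by
    rw [← h2]; abel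
  rw [h5]
  exact add_mem h3 h4

end Groth.Agent.CAlgEtLift
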