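import Groth.Agent.CAlgEtLift.Factor
import Groth.Agent.Hensel.SmoothLift

/-!
# Étale local sections of smooth algebras
-/

universe u

open CategoryTheory

namespace Groth.Agent.CAlgEtLift

open Groth.Agent.Hensel

theorem exists_etale_lift_section {A B : Type u} [CommRing A] [CommRing B] [Algebra A B]
    [Algebra.Smooth A B] (I : Ideal A) (σ : B →ₐ[A] A ⧸ I) :
    ∃ (A' : Type u) (_ : CommRing A') (_ : Algebra A A'), Algebra.Etale A A' ∧
      Function.Bijective (algebraMap (A ⧸ I) (A' ⧸ I.map (algebraMap A A'))) ∧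
      ∃ τ : B →ₐ[A] A', ∀ b : B,
        Ideal.Quotient.mk (I.map (algebraMap A A')) (τ b) =
          algebraMap (A ⧸ I) (A' ⧸ I.map (algebraMap A A')) (σ b) := by
  classical
  let H := Hens A (A ⧸ I)
  let IH := I.map (algebraMap A H)
  let φ : A ⧸ I →ₐ[A] H ⧸ IH := Ideal.quotientMapₐ IH (Algebra.ofId A H) Ideal.le_comap_map
  haveI : HenselianRing H IH := (isPairHenselization_hens A I).1
  obtain ⟨τ, hτ⟩ := exists_algHom_lift_of_smooth (A := H) (I := IH) (R := A) (φ.comp σ)
  have hπ : ∀ b, Hens.π A (A ⧸ I) (τ b) = σ b := fun b => by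
    obtain ⟨a, ha⟩ := Ideal.Quotient.mk_surjective (σ b)
    rw [← ha]
    refine π_eq_of_mk ?_
    have h1 : Ideal.Quotient.mk IH (τ b) = φ (σ b) := DFunLike.congr_fun hτ b
    rw [h1, ← ha]
    exact φ.commutes a
  obtain ⟨n, f, hf, hker⟩ := (inferInstance : Algebra.FinitePresentation A B).out
  obtain ⟨S, hS⟩ := hker
  obtain ⟨X, c, hc⟩ := Hens.exists_rep_fintype (fun i : Fin n => τ (f (MvPolynomial.X i)))
  let g : MvPolynomial (Fin n) A →ₐ[A] X.carrier := MvPolynomial.aeval c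
  have hg : (Hens.of X).comp g = τ.comp f := MvPolynomial.algHom_ext fun i => by simp [g, hc]
  obtain ⟨Y, e, he⟩ := exists_stage_zero S (fun p => g p) fun p hp => by
    have hp0 : f p = 0 := by
      have : p ∈ RingHom.ker f.toRingHom := hS ▸ Ideal.subset_span hp
      exact this
    rw [← AlgHom.comp_apply, hg, AlgHom.comp_apply, hp0, map_zero]
  obtain ⟨E, _, _, _, s, ψ, hE, hψ⟩ := exists_trivial_nbhd Y
  let θ : X.carrier →ₐ[A] E := ψ.comp e.1
  have hle : RingHom.ker f.toRingHom ≤ RingHom.ker (θ.comp g).toRingHom := by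
    rw [← hS, Ideal.span_le]
    intro p hp
    show ψ (e.1 (g p)) = 0
    rw [he p hp, map_zero]
  let τ' : B →ₐ[A] E :=
    (Ideal.Quotient.liftₐ (RingHom.ker f.toRingHom) (θ.comp g) hle).comp
      (Ideal.quotientKerAlgEquivOfSurjective hf).symm.toAlgHom
  refine ⟨E, inferInstance, inferInstance, inferInstance, hE, τ', fun b => ?_⟩
  obtain ⟨p, rfl⟩ := hf b
  have hp : τ' (f p) = θ (g p) := by
    have : (Ideal.quotientKerAlgEquivOfSurjective hf).symm (f p) = Ideal.Quotient.mk _ p := by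
      rw [AlgEquiv.symm_apply_eq]; rfl
    show Ideal.Quotient.liftₐ _ (θ.comp g) hle ((Ideal.quotientKerAlgEquivOfSurjective hf).symm (f p)) = _
    rw [this]
    rfl
  rw [hp, mk_eq_point hE s]
  congr 1
  show s (ψ (e.1 (g p))) = σ (f p)
  rw [hψ, Nbhd.pt_hom, ← Hens.π_of, ← AlgHom.comp_apply (Hens.of X) g, hg, AlgHom.comp_apply, hπ]

end Groth.Agent.CAlgEtLift
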