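import Groth.Agent.Hensel.PairHens
import Groth.Agent.Hensel.Main

/-!
# Descending finitely many data from the henselization to an étale neighbourhood
-/

universe u v

open TensorProduct CategoryTheory

namespace Groth.Agent.CAlgEtLift

open Groth.Agent.Hensel

variable {R K : Type u} [CommRing R] [CommRing K] [Algebra R K]

theorem of_comp {X Y : Nbhd R K} (f : X ⟶ Y) :
    (Hens.of Y).toLinearMap ∘ₗ f.1.toLinearMap = (Hens.of X).toLinearMap :=
  LinearMap.ext (Hens.of_hom f)

/-- Finitely many elements dying in the henselization die at one stage. -/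
theorem exists_stage_zero {ι : Type*} (s : Finset ι) {X : Nbhd R K} (x : ι → X.carrier)
    (h : ∀ i ∈ s, Hens.of X (x i) = 0) : ∃ (Y : Nbhd R K) (f : X ⟶ Y), ∀ i ∈ s, f.1 (x i) = 0 := by
  classical
  induction s using Finset.induction_on with
  | empty => exact ⟨X, 𝟙 X, by simp⟩
  | insert i s hi ih =>
    obtain ⟨Y, f, hf⟩ := ih fun j hj => h j (Finset.mem_insert_of_mem hj)
    have h0 : Hens.of Y (f.1 (x i)) = Hens.of Y 0 := by
      rw [Hens.of_hom, h i (Finset.mem_insert_self _ _), map_zero]
    obtain ⟨Z, g, hg⟩ := (Hens.of_eq_iff _ _).1 h0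
    refine ⟨Z, f ≫ g, fun j hj => ?_⟩
    show g.1 (f.1 (x j)) = 0
    rcases Finset.mem_insert.1 hj with rfl | hj
    · rw [hg, map_zero]
    · rw [hf j hj, map_zero]

section

variable (M : Type v) [AddCommMonoid M] [Module R M]

theorem rTensor_of_hom {X Y : Nbhd R K} (f : X ⟶ Y) (z : X.carrier ⊗[R] M) :
    (Hens.of Y).toLinearMap.rTensor M (f.1.toLinearMap.rTensor M z) =
      (Hens.of X).toLinearMap.rTensor M z := by
  rw [← LinearMap.comp_apply, ← LinearMap.rTensor_comp, of_comp]

/-- Every element of `Hens ⊗ M` comes from a stage. -/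
theorem exists_rep_tensor (z : Hens R K ⊗[R] M) :
    ∃ (X : Nbhd R K) (w : X.carrier ⊗[R] M), (Hens.of X).toLinearMap.rTensor M w = z := by
  obtain ⟨t, rfl⟩ := TensorProduct.exists_finset z
  obtain ⟨X, x, hx⟩ := Hens.exists_rep_fintype (fun i : t => i.1.1)
  refine ⟨X, ∑ i : t, x i ⊗ₜ i.1.2, ?_⟩
  rw [map_sum, ← Finset.sum_coe_sort t]
  exact Finset.sum_congr rfl fun i _ => by simp [hx]

end

variable (M : Type v) [AddCommGroup M] [Module R M]

/-- An element of `stage ⊗ M` dying in `Hens ⊗ M` dies at a later stage. -/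
theorem exists_stage_tensor_zero {X : Nbhd R K} (z : X.carrier ⊗[R] M)
    (h : (Hens.of X).toLinearMap.rTensor M z = 0) :
    ∃ (Y : Nbhd R K) (f : X ⟶ Y), f.1.toLinearMap.rTensor M z = 0 := by
  classical
  let q : (M →₀ R) →ₗ[R] M := Finsupp.linearCombination R id
  have hq : Function.Surjective q := fun m => ⟨Finsupp.single m 1, (Finsupp.linearCombination_single R 1 m).trans (one_smul R m)⟩
  let ι : LinearMap.ker q →ₗ[R] (M →₀ R) := (LinearMap.ker q).subtype
  obtain ⟨z₁, rfl⟩ := LinearMap.lTensor_surjective X.carrier hq z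
  have hex : Function.Exact (ι.lTensor (Hens R K)) (q.lTensor (Hens R K)) :=
    lTensor_exact _ (LinearMap.exact_iff.2 (Submodule.range_subtype _).symm) hq
  obtain ⟨w, hw⟩ := (hex ((Hens.of X).toLinearMap.rTensor (M →₀ R) z₁)).1 (by
    rw [← LinearMap.comp_apply, LinearMap.lTensor_comp_rTensor, ← LinearMap.rTensor_comp_lTensor,
      LinearMap.comp_apply]
    exact h)
  obtain ⟨W, w₁, rfl⟩ := exists_rep_tensor _ w
  let Y := IsFiltered.max X W
  let f := IsFiltered.leftToMax X W
  let g := IsFiltered.rightToMax X W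
  let d : Y.carrier ⊗[R] (M →₀ R) := f.1.toLinearMap.rTensor (M →₀ R) z₁ - ι.lTensor _ (g.1.toLinearMap.rTensor _ w₁)
  have hd : (Hens.of Y).toLinearMap.rTensor (M →₀ R) d = 0 := by
    rw [map_sub, rTensor_of_hom, ← LinearMap.comp_apply, LinearMap.rTensor_comp_lTensor,
      ← LinearMap.lTensor_comp_rTensor, LinearMap.comp_apply, rTensor_of_hom, hw, sub_self]
  let c : M →₀ Y.carrier := finsuppScalarRight R R Y.carrier M d
  have hc : ∀ m, Hens.of Y (c m) = 0 := fun m => by
    have key : ∀ y : Y.carrier ⊗[R] (M →₀ R), Hens.of Y (finsuppScalarRight R R Y.carrier M y m) =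
        finsuppScalarRight R R (Hens R K) M ((Hens.of Y).toLinearMap.rTensor (M →₀ R) y) m := fun y => by
      induction y using TensorProduct.induction_on with
      | zero => simp
      | tmul a b => simp only [LinearMap.rTensor_tmul, AlgHom.toLinearMap_apply, finsuppScalarRight_apply_tmul_apply, map_smul]
      | add a b ha hb => simp [ha, hb]
    rw [key, hd, map_zero, Finsupp.coe_zero, Pi.zero_apply]
  obtain ⟨Z, e, he⟩ := exists_stage_zero c.support (fun m => c m) (fun m _ => hc m)
  refine ⟨Z, f ≫ e, ?_⟩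
  have hez : e.1.toLinearMap.rTensor (M →₀ R) d = 0 := by
    apply (finsuppScalarRight R R Z.carrier M).injective
    have key : ∀ (y : Y.carrier ⊗[R] (M →₀ R)) (m : M), finsuppScalarRight R R Z.carrier M (e.1.toLinearMap.rTensor (M →₀ R) y) m =
        e.1 (finsuppScalarRight R R Y.carrier M y m) := fun y m => by
      induction y using TensorProduct.induction_on with
      | zero => simp
      | tmul a b => simp only [LinearMap.rTensor_tmul, AlgHom.toLinearMap_apply, finsuppScalarRight_apply_tmul_apply, map_smul]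
      | add a b ha hb => simp [ha, hb]
    rw [map_zero]
    ext m
    rw [key, Finsupp.coe_zero, Pi.zero_apply]
    by_cases hm : m ∈ c.support
    · exact he m hm
    · rw [show finsuppScalarRight R R Y.carrier M d m = c m from rfl, Finsupp.notMem_support_iff.1 hm, map_zero]
  have h0 : q.lTensor Z.carrier (e.1.toLinearMap.rTensor (M →₀ R) (ι.lTensor _ (g.1.toLinearMap.rTensor _ w₁))) = 0 := by
    rw [← LinearMap.comp_apply (e.1.toLinearMap.rTensor (M →₀ R)), LinearMap.rTensor_comp_lTensor,
      ← LinearMap.lTensor_comp_rTensor, LinearMap.comp_apply, ← LinearMap.comp_apply (q.lTensor _),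
      ← LinearMap.lTensor_comp, show q ∘ₗ ι = 0 from LinearMap.ext fun x => x.2]
    simp
  rw [map_sub, sub_eq_zero] at hez
  show (e.1.toLinearMap ∘ₗ f.1.toLinearMap).rTensor M (q.lTensor _ z₁) = 0
  rw [← LinearMap.comp_apply, LinearMap.rTensor_comp_lTensor, ← LinearMap.lTensor_comp_rTensor,
    LinearMap.comp_apply, LinearMap.rTensor_comp, LinearMap.comp_apply, hez, h0]

/-- The class of an element of a neighbourhood trivial modulo `I` is the class of its point. -/
theorem mk_eq_point {A : Type u} [CommRing A] {I : Ideal A} {E : Type u} [CommRing E] [Algebra A E]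
    (hE : IsTrivialModI I E) (σ : E →ₐ[A] A ⧸ I) (x : E) :
    Ideal.Quotient.mk (I.map (algebraMap A E)) x =
      algebraMap (A ⧸ I) (E ⧸ I.map (algebraMap A E)) (σ x) := by
  obtain ⟨a, ha⟩ := hE.exists_sub_mem x
  have h1 : σ x = Ideal.Quotient.mk I a := by
    have h2 : I.map (algebraMap A E) ≤ RingHom.ker σ.toRingHom := Ideal.map_le_iff_le_comap.2 fun i hi => by
      rw [Ideal.mem_comap, RingHom.mem_ker]
      exact (σ.commutes i).trans (Ideal.Quotient.eq_zero_iff_mem.2 hi)
    have := h2 ha
    rw [RingHom.mem_ker, AlgHom.toRingHom_eq_coe, AlgHom.coe_toRingHom, map_sub, AlgHom.commutes,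
      sub_eq_zero] at this
    exact this
  rw [h1, Ideal.Quotient.eq.2 ha]
  rfl

theorem gabberRoot_hens (A : Type u) [CommRing A] (I : Ideal A) :
    GabberRoot (Hens A (A ⧸ I)) (I.map (algebraMap A (Hens A (A ⧸ I)))) := by
  haveI := (isPairHenselization_hens A I).1
  exact gabberRoot_of_henselianRing

end Groth.Agent.CAlgEtLift
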